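import Groth.Agent.Lib.AlgGlue.Basic
import Groth.Agent.Lib.QCoh.Localizing
import Mathlib.Algebra.TrivSqZeroExt.Basic

/-!
# The algebra `O ⊕ L` with `L² = 0`
-/

set_option autoImplicit false
set_option linter.style.haveILetI false
noncomputable section
universe u

open CategoryTheory CategoryTheory.Limits AlgebraicGeometry Opposite TopologicalSpace
open Groth.Agent.Lib.QCoh.Localizing

namespace Groth.Agent.Lib.SplitRibbon

variable {D : Scheme.{u}} (L : D.Modules)

/-- The right action. -/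
@[reducible] def opModule (U : D.Opens) : Module (Γ(D, U))ᵐᵒᵖ Γ(L, U) :=
  Module.compHom _ ((RingHom.id Γ(D, U)).fromOpposite fun a b => mul_comm a b)

attribute [local instance] opModule

theorem isCentralScalar (U : D.Opens) : IsCentralScalar Γ(D, U) Γ(L, U) := ⟨fun _ _ => rfl⟩

attribute [local instance] isCentralScalar

/-- The sections of `O ⊕ L`. -/
abbrev Ext (U : D.Opens) : Type u := TrivSqZeroExt Γ(D, U) Γ(L, U)

/-- Restriction. -/
def resHom {U V : D.Opens} (h : V ≤ U) : Ext L U →+* Ext L V where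
  toFun x := (D.presheaf.map (homOfLE h).op x.fst, L.presheaf.map (homOfLE h).op x.snd)
  map_one' := Prod.ext (map_one _) (map_zero _)
  map_zero' := Prod.ext (map_zero _) (map_zero _)
  map_add' x y := Prod.ext (map_add _ _ _) (map_add _ _ _)
  map_mul' x y := Prod.ext (map_mul _ _ _) (by
    refine (map_add _ _ _).trans ?_
    exact congrArg₂ (· + ·) (Scheme.Modules.map_smul L _ _ _) (Scheme.Modules.map_smul L _ _ _))

/-- The presheaf `O ⊕ L`. -/
def algF : D.Opensᵒᵖ ⥤ CommRingCat.{u} where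
  obj U := CommRingCat.of (Ext L U.unop)
  map f := CommRingCat.ofHom (resHom L f.unop.le)
  map_id U := by
    refine CommRingCat.hom_ext (RingHom.ext fun x => ?_)
    exact Prod.ext (ConcreteCategory.congr_hom (D.presheaf.map_id U) x.fst)
      (ConcreteCategory.congr_hom (L.presheaf.map_id U) x.snd)
  map_comp f g := by
    refine CommRingCat.hom_ext (RingHom.ext fun x => ?_)
    exact Prod.ext (ConcreteCategory.congr_hom (D.presheaf.map_comp f g) x.fst)
      (ConcreteCategory.congr_hom (L.presheaf.map_comp f g) x.snd)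

/-- `a ↦ (a, 0)`. -/
def algα : D.presheaf ⟶ algF L where
  app U := CommRingCat.ofHom (TrivSqZeroExt.inlHom Γ(D, U.unop) Γ(L, U.unop))
  naturality U V f := by
    ext a
    exact Prod.ext rfl (map_zero (L.presheaf.map f).hom).symm

/-- `(a, m) ↦ a`. -/
def algπ : algF L ⟶ D.presheaf where
  app U := CommRingCat.ofHom (TrivSqZeroExt.fstHom ℤ Γ(D, U.unop) Γ(L, U.unop)).toRingHom
  naturality U V f := by
    ext x
    rfl

theorem algα_π : algα L ≫ algπ L = 𝟙 D.presheaf := by
  ext U a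
  rfl

theorem isQC_alg [L.IsQuasicoherent] : AlgGlue.Basic.IsQC (algα L) := by
  intro U hU f
  letI : Algebra (Ext L U) (Ext L (D.basicOpen f)) := (resHom L (D.basicOpen_le f)).toAlgebra
  show IsLocalization.Away (TrivSqZeroExt.inl f : Ext L U) (Ext L (D.basicOpen f))
  haveI := hU.isLocalization_basicOpen f
  have hL := localizes_of_isAffineOpen L hU f
  refine IsLocalization.Away.mk _ ?_ (fun z => ?_) fun a b hab => ?_
  · exact (IsLocalization.Away.algebraMap_isUnit (S := Γ(D, D.basicOpen f)) f).map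
      (TrivSqZeroExt.inlHom Γ(D, D.basicOpen f) Γ(L, D.basicOpen f)) |>.elim fun u hu =>
        ⟨u, hu.trans (Prod.ext rfl (map_zero _).symm)⟩
  · obtain ⟨n₁, a, ha⟩ := IsLocalization.Away.surj f z.fst
    obtain ⟨n₂, m, hm⟩ := hL.ext' z.snd
    refine ⟨n₁ + n₂, TrivSqZeroExt.inl (f ^ n₂ * a) + TrivSqZeroExt.inr (f ^ n₁ • m), ?_⟩
    rw [← map_pow, TrivSqZeroExt.inl_pow f (n₁ + n₂)]
    refine TrivSqZeroExt.ext ?_ ?_
    · show z.fst * algebraMap Γ(D, U) Γ(D, D.basicOpen f) (f ^ (n₁ + n₂)) =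
        algebraMap Γ(D, U) Γ(D, D.basicOpen f) (f ^ n₂ * a + 0)
      rw [add_zero, map_mul, ← ha, pow_add, map_mul, map_pow, map_pow]
      ring
    · show z.fst • L.presheaf.map (homOfLE (D.basicOpen_le f)).op 0 +
          D.presheaf.map (homOfLE (D.basicOpen_le f)).op (f ^ (n₁ + n₂)) • z.snd =
        L.presheaf.map (homOfLE (D.basicOpen_le f)).op (0 + f ^ n₁ • m)
      rw [map_zero, smul_zero, zero_add, zero_add]
      change resR (D.basicOpen_le f) (f ^ (n₁ + n₂)) • z.snd = res L (D.basicOpen_le f) (f ^ n₁ • m)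
      rw [res_smul, hm, pow_add, map_mul, mul_smul, map_pow, map_pow]
  · have h1 : algebraMap Γ(D, U) Γ(D, D.basicOpen f) a.fst = algebraMap Γ(D, U) _ b.fst :=
      congrArg TrivSqZeroExt.fst hab
    have h2 : res L (D.basicOpen_le f) a.snd = res L (D.basicOpen_le f) b.snd :=
      congrArg TrivSqZeroExt.snd hab
    obtain ⟨n₁, hn₁⟩ := IsLocalization.Away.exists_of_eq f h1
    obtain ⟨n₂, hn₂⟩ := hL.sep.exists_pow_smul_eq h2
    refine ⟨n₁ + n₂, TrivSqZeroExt.ext ?_ ?_⟩
    · rw [TrivSqZeroExt.inl_pow]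
      show f ^ (n₁ + n₂) * a.fst = f ^ (n₁ + n₂) * b.fst
      rw [pow_add, mul_comm (f ^ n₁), mul_assoc, hn₁, ← mul_assoc]
    · rw [TrivSqZeroExt.inl_pow]
      show f ^ (n₁ + n₂) • a.snd + MulOpposite.op a.fst • (0 : Γ(L, U)) =
        f ^ (n₁ + n₂) • b.snd + MulOpposite.op b.fst • (0 : Γ(L, U))
      rw [smul_zero, smul_zero, add_zero, add_zero, pow_add, mul_smul, hn₂, ← mul_smul]

end Groth.Agent.Lib.SplitRibbon
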