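import Groth.Agent.Lib.SplitRibbon.Alg
import Groth.Agent.Lib.SqZeroMod.Basic
import Groth.Agent.Lib.ClSub.Basis
import Groth.Agent.Lib.ClSub.Sections
import Mathlib.AlgebraicGeometry.Morphisms.ClosedImmersion

/-!
# The split square-zero thickening of `D` by `L`
-/

set_option autoImplicit false
set_option linter.style.haveILetI false
noncomputable section
universe u

open CategoryTheory CategoryTheory.Limits AlgebraicGeometry Opposite TopologicalSpace
open Groth.Agent.Lib Groth.Agent.Lib.AlgGlue.Basic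

namespace Groth.Agent.Lib.SplitRibbon

attribute [local instance] opModule isCentralScalar

variable {D : Scheme.{u}} (L : D.Modules) [L.IsQuasicoherent]

theorem isQC_id : IsQC (𝟙 D.presheaf) := fun U hU f => hU.isLocalization_basicOpen f

/-- The thickening. -/
abbrev C : Scheme.{u} := spec (isQC_alg L)

/-- The retraction. -/
abbrev p : C L ⟶ D := proj (isQC_alg L)

theorem exists_section :
    ∃ i : D ⟶ C L, i ≫ p L = 𝟙 D ∧ ∀ V : D.affineOpens,
      V.2.fromSpec ≫ i = Spec.map ((algπ L).app (op V.1)) ≫ chart (isQC_alg L) V := by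
  let H₀ := isQC_id (D := D)
  haveI : IsIso (proj H₀) := by
    have h := isIso_morphismRestrict H₀ (⊤ : D.Opens) (fun V : D.affineOpens => V)
      (iSup_affineOpens_eq_top D) fun V => Function.bijective_id
    haveI h2 : IsIso ((⊤ : D.Opens).ι) := by
      rw [← Scheme.topIso_hom]
      infer_instance
    haveI h3 : IsIso ((proj H₀ ⁻¹ᵁ ⊤).ι) := by
      show IsIso ((⊤ : (spec H₀).Opens).ι)
      rw [← Scheme.topIso_hom]
      infer_instance
    haveI : IsIso ((proj H₀ ⁻¹ᵁ ⊤).ι ≫ proj H₀) := by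
      rw [← morphismRestrict_ι]
      infer_instance
    exact IsIso.of_isIso_comp_left (proj H₀ ⁻¹ᵁ ⊤).ι _
  let c : Cocone (data H₀).functor :=
    { pt := C L
      ι := { app := fun U => Spec.map ((algπ L).app (op U.1)) ≫ chart (isQC_alg L) ⟨U.1, U.2⟩
             naturality := fun U V k => by
              refine Eq.trans ?_ (Category.comp_id _).symm
              show Spec.map (D.presheaf.map (homOfLE (Scheme.AffineZariskiSite.toOpens_mono k.le)).op) ≫ _ = _
              refine (Spec.map_comp_assoc _ _ _).symm.trans ?_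
              refine (congrArg (fun q => Spec.map q ≫ _) ((algπ L).naturality
                (homOfLE (Scheme.AffineZariskiSite.toOpens_mono k.le)).op).symm).trans ?_
              refine (Spec.map_comp_assoc _ _ _).trans (congrArg (Spec.map _ ≫ ·) ?_)
              exact chart_w (isQC_alg L) (U := ⟨V.1, V.2⟩) (V := ⟨U.1, U.2⟩) (Scheme.AffineZariskiSite.toOpens_mono k.le) } }
  let σ : spec H₀ ⟶ C L := colimit.desc _ c
  have hσ : ∀ V : D.affineOpens, chart H₀ V ≫ σ = Spec.map ((algπ L).app (op V.1)) ≫ chart (isQC_alg L) V :=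
    fun V => colimit.ι_desc c V
  have hchart : ∀ V : D.affineOpens, chart H₀ V ≫ proj H₀ = V.2.fromSpec := fun V => by
    rw [chart_proj, NatTrans.id_app, Spec.map_id, Category.id_comp]
  refine ⟨inv (proj H₀) ≫ σ, ?_, fun V => ?_⟩
  · rw [Category.assoc, IsIso.inv_comp_eq, Category.comp_id]
    refine colimit.hom_ext fun V => ?_
    show chart H₀ ⟨V.1, V.2⟩ ≫ σ ≫ p L = chart H₀ ⟨V.1, V.2⟩ ≫ proj H₀
    rw [← Category.assoc, hσ, Category.assoc, chart_proj, hchart, ← Spec.map_comp_assoc, ← NatTrans.comp_app,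
      algα_π, NatTrans.id_app, Spec.map_id, Category.id_comp]
  · rw [← hchart V, Category.assoc, IsIso.hom_inv_id_assoc, hσ]

variable {L} (i : D ⟶ C L) (hi : i ≫ p L = 𝟙 D)
  (hi' : ∀ V : D.affineOpens, V.2.fromSpec ≫ i = Spec.map ((algπ L).app (op V.1)) ≫ chart (isQC_alg L) V)

include hi in
theorem preimage_preimage (U : D.Opens) : i ⁻¹ᵁ (p L ⁻¹ᵁ U) = U := by
  rw [← Scheme.Hom.comp_preimage, hi, Scheme.Hom.id_preimage]

include hi hi' in
theorem appLE_affine (V : D.affineOpens) :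
    i.appLE (p L ⁻¹ᵁ V.1) V.1 (preimage_preimage i hi V.1).ge =
      rho (isQC_alg L) V ≫ (algπ L).app (op V.1) := by
  have e'' : (⊤ : (Spec Γ(D, V.1)).Opens) ≤ V.2.fromSpec ⁻¹ᵁ V.1 := by rw [V.2.fromSpec_preimage_self]
  have h4 : V.2.fromSpec.appLE V.1 ⊤ e'' = (Scheme.ΓSpecIso Γ(D, V.1)).inv := by
    rw [Scheme.Hom.appLE, V.2.fromSpec_app_self, Category.assoc, ← Functor.map_comp]
    convert Category.comp_id _
    exact (Spec Γ(D, V.1)).presheaf.map_id _
  have e : (⊤ : (Spec Γ(D, V.1)).Opens) ≤ (V.2.fromSpec ≫ i) ⁻¹ᵁ (p L ⁻¹ᵁ V.1) := fun x hx =>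
    (preimage_preimage i hi V.1).ge (e'' hx)
  have h1 : i.appLE (p L ⁻¹ᵁ V.1) V.1 (preimage_preimage i hi V.1).ge ≫ (Scheme.ΓSpecIso Γ(D, V.1)).inv =
      (V.2.fromSpec ≫ i).appLE (p L ⁻¹ᵁ V.1) ⊤ e := by
    rw [← h4, Scheme.Hom.appLE_comp_appLE]
  have e' : (⊤ : (Spec Γ(D, V.1)).Opens) ≤
      (Spec.map ((algπ L).app (op V.1)) ≫ chart (isQC_alg L) V) ⁻¹ᵁ (p L ⁻¹ᵁ V.1) := by
    rw [← hi' V]; exact e
  have h2 : (V.2.fromSpec ≫ i).appLE (p L ⁻¹ᵁ V.1) ⊤ e =
      (Spec.map ((algπ L).app (op V.1)) ≫ chart (isQC_alg L) V).appLE (p L ⁻¹ᵁ V.1) ⊤ e' := by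
    congr 1
    exact hi' V
  have h3 : (Spec.map ((algπ L).app (op V.1)) ≫ chart (isQC_alg L) V).appLE (p L ⁻¹ᵁ V.1) ⊤ e' =
      (chart (isQC_alg L) V).appLE _ ⊤ (top_le (isQC_alg L) V) ≫
        (Spec.map ((algπ L).app (op V.1))).appLE ⊤ ⊤ (fun _ _ => trivial) :=
    (Scheme.Hom.appLE_comp_appLE _ _ _ _ _ _ _).symm
  have h5 : (Spec.map ((algπ L).app (op V.1))).appLE ⊤ ⊤ (fun _ _ => trivial) =
      (Spec.map ((algπ L).app (op V.1))).appTop := by
    show (Spec.map ((algπ L).app (op V.1))).app ⊤ ≫ (Spec (D.presheaf.obj (op V.1))).presheaf.map _ = _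
    exact (congrArg (_ ≫ ·) ((Spec (D.presheaf.obj (op V.1))).presheaf.map_id (op ⊤))).trans (Category.comp_id _)
  have h6 := (h1.trans h2).trans h3
  rw [h5] at h6
  rw [← cancel_mono (Scheme.ΓSpecIso Γ(D, V.1)).inv, h6, rho, Category.assoc, Category.assoc]
  congr 1
  rw [← cancel_mono (Scheme.ΓSpecIso Γ(D, V.1)).hom]
  simp only [Category.assoc, Iso.inv_hom_id, Category.comp_id]
  exact Scheme.ΓSpecIso_naturality _

include hi hi' in
theorem appLE_theta (U : D.Opens) (x : Ext L U) :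
    i.appLE (p L ⁻¹ᵁ U) U (preimage_preimage i hi U).ge (theta (isQC_alg L) U x) = x.fst := by
  let J := {V : D.affineOpens // V.1 ≤ U}
  refine D.sheaf.eq_of_locally_eq' (fun V : J => V.1.1) U (fun V => homOfLE V.2) (fun z hz => ?_) _ _ fun V => ?_
  · obtain ⟨V, hV, hzV, hVU⟩ := exists_isAffineOpen_mem_and_subset (x := z) (U := U) hz
    exact Opens.mem_iSup.2 ⟨⟨⟨V, hV⟩, hVU⟩, hzV⟩
  · have h := ConcreteCategory.congr_hom (appLE_affine i hi hi' V.1)
      ((C L).presheaf.map (homOfLE ((p L).preimage_mono V.2)).op (theta (isQC_alg L) U x))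
    rw [ConcreteCategory.comp_apply, rho_theta (isQC_alg L) x V.1 V.2] at h
    refine Eq.trans ?_ h
    show D.presheaf.map (homOfLE V.2).op (i.appLE _ _ _ _) = _
    rw [← ConcreteCategory.comp_apply, ← ConcreteCategory.comp_apply, Scheme.Hom.appLE_map,
      Scheme.Hom.map_appLE]

include hi in
theorem app_eq_zero_iff (U : D.Opens) (t : Γ(C L, p L ⁻¹ᵁ U)) :
    i.appLE (p L ⁻¹ᵁ U) U (preimage_preimage i hi U).ge t = 0 ↔ i.app (p L ⁻¹ᵁ U) t = 0 := by
  rw [show i.appLE (p L ⁻¹ᵁ U) U (preimage_preimage i hi U).ge = i.app (p L ⁻¹ᵁ U) ≫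
    D.presheaf.map (homOfLE (preimage_preimage i hi U).ge).op from rfl, ConcreteCategory.comp_apply]
  haveI : IsIso (D.presheaf.map (homOfLE (preimage_preimage i hi U).ge).op) := by
    rw [show homOfLE (preimage_preimage i hi U).ge = eqToHom (preimage_preimage i hi U).symm from
      Subsingleton.elim _ _]
    infer_instance
  exact map_eq_zero_iff _ (ConcreteCategory.bijective_of_isIso _).1

omit hi' in
theorem rho_inv (V : D.affineOpens) (x : Ext L V.1) : rho (isQC_alg L) V (theta (isQC_alg L) V.1 x) = x := by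
  refine Eq.trans ?_ ((rho_theta (isQC_alg L) x V le_rfl).trans
    (ConcreteCategory.congr_hom ((algF L).map_id (op V.1)) x))
  exact congrArg (rho (isQC_alg L) V)
    (ConcreteCategory.congr_hom ((C L).presheaf.map_id _) _).symm

include hi hi' in
theorem sq_zero (V : D.affineOpens) {a b : Γ(C L, p L ⁻¹ᵁ V.1)}
    (ha : i.app (p L ⁻¹ᵁ V.1) a = 0) (hb : i.app (p L ⁻¹ᵁ V.1) b = 0) : a * b = 0 := by
  rw [← app_eq_zero_iff i hi] at ha hb
  rw [appLE_affine i hi hi' V, ConcreteCategory.comp_apply] at ha hb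
  apply (ConcreteCategory.bijective_of_isIso (rho (isQC_alg L) V)).1
  rw [map_mul, map_zero]
  generalize rho (isQC_alg L) V a = x at ha ⊢
  generalize rho (isQC_alg L) V b = y at hb ⊢
  have ha' : TrivSqZeroExt.fst (x : Ext L V.1) = 0 := ha
  have hb' : TrivSqZeroExt.fst (y : Ext L V.1) = 0 := hb
  show (x : Ext L V.1) * y = 0
  refine TrivSqZeroExt.ext ?_ ?_
  · show (x : Ext L V.1).fst * (y : Ext L V.1).fst = 0
    rw [ha', zero_mul]
  · show (x : Ext L V.1).fst • (y : Ext L V.1).snd + MulOpposite.op (y : Ext L V.1).fst • (x : Ext L V.1).snd = 0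
    rw [ha', hb', zero_smul, MulOpposite.op_zero, zero_smul, add_zero]

include hi in
theorem isClosedImmersion_section : IsClosedImmersion i := by
  haveI : IsClosedImmersion (i ≫ p L) := by rw [hi]; infer_instance
  exact IsClosedImmersion.of_comp i (p L)

include hi hi' in
theorem ker_sq : i.ker ^ 2 = ⊥ := by
  haveI := isClosedImmersion_section i hi
  refine Scheme.IdealSheafData.ext_of_iSup_eq_top
    (fun V : D.affineOpens => (⟨p L ⁻¹ᵁ V.1, isAffineOpen_preimage _ V.2⟩ : (C L).affineOpens)) ?_ fun V => ?_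
  · rw [← Scheme.Hom.preimage_iSup, iSup_affineOpens_eq_top, Scheme.Hom.preimage_top]
  · rw [Scheme.IdealSheafData.ideal_pow, Pi.pow_apply, Scheme.IdealSheafData.ideal_bot, Pi.bot_apply,
      pow_two, Scheme.Hom.ker_apply, eq_bot_iff, Ideal.mul_le]
    exact fun a ha b hb => (Submodule.mem_bot _).2 (sq_zero i hi hi' V ha hb)

omit hi hi' in
theorem theta_inr_smul (U : D.Opens) (r : Γ(D, U)) (m : Γ(L, U)) :
    theta (isQC_alg L) U (TrivSqZeroExt.inr (r • m)) =
      (p L).app U r * theta (isQC_alg L) U (TrivSqZeroExt.inr m) := by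
  rw [← theta_app (isQC_alg L)]
  refine Eq.trans ?_ (map_mul _ _ _)
  exact congrArg _ (TrivSqZeroExt.inl_mul_inr _ _).symm

omit hi hi' in
theorem subschemeι_app_eq_zero_iff [IsClosedImmersion i] (U : (C L).Opens) (t : Γ(C L, U)) :
    i.ker.subschemeι.app U t = 0 ↔ i.app U t = 0 := by
  have h : i.app U t = (i.toImage.app (i.imageι ⁻¹ᵁ U) ≫ D.presheaf.map (eqToHom (by
      rw [← Scheme.Hom.comp_preimage, Scheme.Hom.toImage_imageι])).op) (i.imageι.app U t) := by
    have := Scheme.Hom.congr_app (Scheme.Hom.toImage_imageι i).symm U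
    rw [this, Scheme.Hom.comp_app]
    rfl
  rw [h]
  exact (map_eq_zero_iff _ (ConcreteCategory.bijective_of_isIso _).1).symm

include hi hi' in
theorem exists_iso [IsClosedImmersion i] :
    Nonempty (L ≅ (Scheme.Modules.pushforward (p L)).obj (ClSub.idealMod i.ker)) := by
  have hmem : ∀ (U : D.Opens) (m : Γ(L, U)), ∃ k : Γ(_root_.ClSub.idealMod i.ker, p L ⁻¹ᵁ U),
      (_root_.ClSub.idealModι i.ker).app _ k = theta (isQC_alg L) U (TrivSqZeroExt.inr m) := fun U m => by
    rw [ClSub.Sections.mem_range_idealModι_app_iff, subschemeι_app_eq_zero_iff, ← app_eq_zero_iff i hi,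
      appLE_theta i hi hi', TrivSqZeroExt.fst_inr]
  choose ψ hψ using hmem
  have hinj := fun U : (C L).Opens => ClSub.Sections.idealModι_app_injective i.ker U
  let fp : L.presheaf ⟶ ((Scheme.Modules.pushforward (p L)).obj (_root_.ClSub.idealMod i.ker)).presheaf :=
    { app := fun U => AddCommGrpCat.ofHom (AddMonoidHom.mk' (ψ U.unop) fun a b => hinj _ (by
        refine (hψ _ _).trans (Eq.trans ?_ (map_add _ _ _).symm)
        refine Eq.trans ?_ (congrArg₂ (· + ·) (hψ U.unop a) (hψ U.unop b)).symm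
        exact (congrArg _ (TrivSqZeroExt.inr_add _ a b)).trans (map_add _ _ _)))
      naturality := fun U V k => by
        ext m
        apply hinj
        show (_root_.ClSub.idealModι i.ker).app _ (ψ V.unop (L.presheaf.map k m)) = _
        rw [hψ]
        refine Eq.trans ?_ (ConcreteCategory.congr_hom ((_root_.ClSub.idealModι i.ker).mapPresheaf.naturality
          (homOfLE ((p L).preimage_mono k.unop.le)).op) (ψ U.unop m)).symm
        show _ = (C L).presheaf.map (homOfLE ((p L).preimage_mono k.unop.le)).op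
          ((_root_.ClSub.idealModι i.ker).app _ (ψ U.unop m))
        rw [hψ]
        refine Eq.trans ?_ (theta_res (isQC_alg L) k.unop.le (TrivSqZeroExt.inr m)).symm
        exact congrArg _ (Prod.ext (map_zero (D.presheaf.map k).hom).symm rfl) }
  let φ : L ⟶ (Scheme.Modules.pushforward (p L)).obj (_root_.ClSub.idealMod i.ker) :=
    ⟨PresheafOfModules.homMk fp fun U r m => by
      apply hinj
      show (_root_.ClSub.idealModι i.ker).app _ (ψ U.unop ((show Γ(D, U.unop) from r) • (show Γ(L, U.unop) from m))) =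
        (_root_.ClSub.idealModι i.ker).app _ ((p L).app U.unop r • ψ U.unop m)
      refine (hψ _ _).trans ?_
      refine Eq.trans ?_ (Scheme.Modules.Hom.app_smul (_root_.ClSub.idealModι i.ker) _ _).symm
      refine Eq.trans ?_ (congrArg (((p L).app U.unop r : Γ(C L, p L ⁻¹ᵁ U.unop)) • ·) (hψ U.unop m).symm)
      exact theta_inr_smul U.unop r m⟩
  have hb : ∀ V : D.affineOpens, Function.Bijective (φ.app V.1) := fun V => by
    refine ⟨fun a b hab => ?_, fun k => ?_⟩
    · have h : theta (isQC_alg L) V.1 (TrivSqZeroExt.inr a) = theta (isQC_alg L) V.1 (TrivSqZeroExt.inr b) := by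
        rw [← hψ, ← hψ]
        exact congrArg _ hab
      exact congrArg TrivSqZeroExt.snd ((theta_bijective (isQC_alg L) V.2).1 h)
    · obtain ⟨x, hx⟩ := (theta_bijective (isQC_alg L) V.2).2 ((_root_.ClSub.idealModι i.ker).app _ k)
      refine ⟨TrivSqZeroExt.snd (x : Ext L V.1), hinj _ ?_⟩
      refine (hψ _ _).trans (Eq.trans ?_ hx)
      have h0 := (ClSub.Sections.mem_range_idealModι_app_iff i.ker _ _).1 ⟨k, hx.symm⟩
      rw [subschemeι_app_eq_zero_iff, ← app_eq_zero_iff i hi] at h0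
      have h1 := (appLE_theta i hi hi' V.1 x).symm.trans h0
      exact congrArg _ (TrivSqZeroExt.ext h1.symm rfl)
  haveI := ClSub.Basis.isIso_of_bijective_affine φ hb
  exact ⟨asIso φ⟩

omit hi hi' in
theorem killed_comp {Y : Scheme.{u}} {Z : Scheme.{u}} (f : D ⟶ Y) [IsIso f] (g : Y ⟶ Z) {M : Z.Modules}
    (h : SqZeroMod.Killed g M) : SqZeroMod.Killed (f ≫ g) M := fun z a ha m => by
  refine h (f z) a ((ConcreteCategory.bijective_of_isIso (f.stalkMap z)).1 ?_) m
  rw [map_zero, ← ha, Scheme.Hom.stalkMap_comp]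
  rfl

include hi hi' in
theorem exists_pullback_iso [IsClosedImmersion i] :
    Nonempty ((Scheme.Modules.pullback i).obj (_root_.ClSub.idealMod i.ker) ≅ L) := by
  obtain ⟨e⟩ := exists_iso i hi hi'
  have hsq := ker_sq i hi hi'
  have hsurj : Function.Surjective i := fun x => by
    obtain ⟨y, rfl⟩ := SqZeroMod.subschemeι_surjective i.ker hsq x
    obtain ⟨z, rfl⟩ := i.toImage.surjective y
    exact ⟨z, by rw [← Scheme.Hom.comp_apply]; exact congr($(i.toImage_imageι) z)⟩
  have hk : SqZeroMod.Killed i (_root_.ClSub.idealMod i.ker) := by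
    have h := killed_comp i.toImage i.imageι (SqZeroMod.killed_idealMod i.ker hsq)
    rwa [i.toImage_imageι] at h
  haveI := SqZeroMod.isIso_unit_of_killed i hsurj hk
  exact ⟨((Scheme.Modules.pushforwardId D).app _).symm ≪≫
    (Scheme.Modules.pushforwardCongr hi.symm).app _ ≪≫ ((Scheme.Modules.pushforwardComp i (p L)).app _).symm ≪≫
    (Scheme.Modules.pushforward (p L)).mapIso
      (asIso ((Scheme.Modules.pullbackPushforwardAdjunction i).unit.app _)).symm ≪≫ e.symm⟩

end Groth.Agent.Lib.SplitRibbon
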